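import Cfsg.Agent.H6.LR.S.B0
import Cfsg.Agent.H6.LR.S.B1
import Cfsg.Agent.H6.LR.S.B2
import Cfsg.Agent.H6.LR.S.B3
import Cfsg.Agent.H6.LR.S.B4
import Cfsg.Agent.H6.Ly.Main
import Cfsg.Agent.H6.LR.D.Main
import Cfsg.Agent.H6.LR.B2

set_option autoImplicit false
set_option maxRecDepth 100000
set_option Elab.async false

namespace Cfsg.H6.LR.S

open Ly.M (P ok μ hμ)

theorem sel_lt {p y a b : ℕ} (h : y < p) : sel p y a b = a := by
  rw [sel, show Nat.ble p y = false from Bool.eq_false_iff.mpr fun e => by
    rw [Nat.ble_eq] at e; omega]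

theorem m79 : Mem μ (P.mat code) 79 := Mem.base (ev := Ly.ev) fun x h1 h2 => by
  rw [hμ x h1 h2, Par.mat, Par.mat, code, sel_lt h2]

theorem m80 : Mem μ (P.mat code) 80 := m79.step (Par.def_of_chk ok d79) (by decide +kernel)

theorem m81 : Mem μ (P.mat code) 81 := m80.step (Par.def_of_chk ok d80) (by decide +kernel)

theorem m82 : Mem μ (P.mat code) 82 := m81.step (Par.def_of_chk ok d81) (by decide +kernel)

theorem m83 : Mem μ (P.mat code) 83 := m82.step (Par.def_of_chk ok d82) (by decide +kernel)

theorem m84 : Mem μ (P.mat code) 84 := m83.inv (Par.one_of_chk ok (by decide) d83) (by decide +kernel)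

theorem m85 : Mem μ (P.mat code) 85 := m84.step (Par.def_of_chk ok d84) (by decide +kernel)

theorem m86 : Mem μ (P.mat code) 86 := m85.step (Par.def_of_chk ok d85) (by decide +kernel)

theorem m87 : Mem μ (P.mat code) 87 := m86.step (Par.def_of_chk ok d86) (by decide +kernel)

theorem m88 : Mem μ (P.mat code) 88 := m87.inv (Par.one_of_chk ok (by decide) d87) (by decide +kernel)

theorem m89 : Mem μ (P.mat code) 89 := m88.step (Par.def_of_chk ok d88) (by decide +kernel)

theorem m90 : Mem μ (P.mat code) 90 := m89.step (Par.def_of_chk ok d89) (by decide +kernel)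

theorem m91 : Mem μ (P.mat code) 91 := m90.step (Par.def_of_chk ok d90) (by decide +kernel)

theorem m92 : Mem μ (P.mat code) 92 := m91.step (Par.def_of_chk ok d91) (by decide +kernel)

theorem m93 : Mem μ (P.mat code) 93 := m92.step (Par.def_of_chk ok d92) (by decide +kernel)

theorem m94 : Mem μ (P.mat code) 94 := m93.step (Par.def_of_chk ok d93) (by decide +kernel)

theorem m95 : Mem μ (P.mat code) 95 := m94.step (Par.def_of_chk ok d94) (by decide +kernel)

theorem m96 : Mem μ (P.mat code) 96 := m95.step (Par.def_of_chk ok d95) (by decide +kernel)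

theorem m97 : Mem μ (P.mat code) 97 := m96.step (Par.def_of_chk ok d96) (by decide +kernel)

theorem m98 : Mem μ (P.mat code) 98 := m97.step (Par.def_of_chk ok d97) (by decide +kernel)

theorem m99 : Mem μ (P.mat code) 99 := m98.step (Par.def_of_chk ok d98) (by decide +kernel)

theorem m100 : Mem μ (P.mat code) 100 := m99.step (Par.def_of_chk ok d99) (by decide +kernel)

theorem m101 : Mem μ (P.mat code) 101 := m100.step (Par.def_of_chk ok d100) (by decide +kernel)

theorem m102 : Mem μ (P.mat code) 102 := m101.step (Par.def_of_chk ok d101) (by decide +kernel)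

theorem m103 : Mem μ (P.mat code) 103 := m102.step (Par.def_of_chk ok d102) (by decide +kernel)

theorem m104 : Mem μ (P.mat code) 104 := m103.step (Par.def_of_chk ok d103) (by decide +kernel)

theorem m105 : Mem μ (P.mat code) 105 := m104.step (Par.def_of_chk ok d104) (by decide +kernel)

theorem m106 : Mem μ (P.mat code) 106 := m105.step (Par.def_of_chk ok d105) (by decide +kernel)

theorem m107 : Mem μ (P.mat code) 107 := m106.step (Par.def_of_chk ok d106) (by decide +kernel)

theorem m108 : Mem μ (P.mat code) 108 := m107.step (Par.def_of_chk ok d107) (by decide +kernel)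

theorem m109 : Mem μ (P.mat code) 109 := m108.step (Par.def_of_chk ok d108) (by decide +kernel)

theorem m110 : Mem μ (P.mat code) 110 := m109.step (Par.def_of_chk ok d109) (by decide +kernel)

theorem m111 : Mem μ (P.mat code) 111 := m110.step (Par.def_of_chk ok d110) (by decide +kernel)

theorem m112 : Mem μ (P.mat code) 112 := m111.step (Par.def_of_chk ok d111) (by decide +kernel)

theorem m113 : Mem μ (P.mat code) 113 := m112.step (Par.def_of_chk ok d112) (by decide +kernel)

theorem m114 : Mem μ (P.mat code) 114 := m113.step (Par.def_of_chk ok d113) (by decide +kernel)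

theorem m115 : Mem μ (P.mat code) 115 := m114.step (Par.def_of_chk ok d114) (by decide +kernel)

theorem m116 : Mem μ (P.mat code) 116 := m115.step (Par.def_of_chk ok d115) (by decide +kernel)

theorem m117 : Mem μ (P.mat code) 117 := m116.step (Par.def_of_chk ok d116) (by decide +kernel)

theorem m118 : Mem μ (P.mat code) 118 := m117.step (Par.def_of_chk ok d117) (by decide +kernel)

theorem m119 : Mem μ (P.mat code) 119 := m118.step (Par.def_of_chk ok d118) (by decide +kernel)

theorem m120 : Mem μ (P.mat code) 120 := m119.step (Par.def_of_chk ok d119) (by decide +kernel)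

theorem m121 : Mem μ (P.mat code) 121 := m120.step (Par.def_of_chk ok d120) (by decide +kernel)

theorem m122 : Mem μ (P.mat code) 122 := m121.step (Par.def_of_chk ok d121) (by decide +kernel)

theorem m123 : Mem μ (P.mat code) 123 := m122.step (Par.def_of_chk ok d122) (by decide +kernel)

theorem m124 : Mem μ (P.mat code) 124 := m123.step (Par.def_of_chk ok d123) (by decide +kernel)

theorem m125 : Mem μ (P.mat code) 125 := m124.step (Par.def_of_chk ok d124) (by decide +kernel)

theorem m126 : Mem μ (P.mat code) 126 := m125.step (Par.def_of_chk ok d125) (by decide +kernel)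

theorem m127 : Mem μ (P.mat code) 127 := m126.step (Par.def_of_chk ok d126) (by decide +kernel)

theorem m128 : Mem μ (P.mat code) 128 := m127.step (Par.def_of_chk ok d127) (by decide +kernel)

theorem m129 : Mem μ (P.mat code) 129 := m128.step (Par.def_of_chk ok d128) (by decide +kernel)

theorem m130 : Mem μ (P.mat code) 130 := m129.step (Par.def_of_chk ok d129) (by decide +kernel)

theorem m131 : Mem μ (P.mat code) 131 := m130.step (Par.def_of_chk ok d130) (by decide +kernel)

theorem m132 : Mem μ (P.mat code) 132 := m131.step (Par.def_of_chk ok d131) (by decide +kernel)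

theorem m133 : Mem μ (P.mat code) 133 := m132.step (Par.def_of_chk ok d132) (by decide +kernel)

theorem m134 : Mem μ (P.mat code) 134 := m133.step (Par.def_of_chk ok d133) (by decide +kernel)

theorem m135 : Mem μ (P.mat code) 135 := m134.step (Par.def_of_chk ok d134) (by decide +kernel)

theorem m136 : Mem μ (P.mat code) 136 := m135.step (Par.def_of_chk ok d135) (by decide +kernel)

theorem m137 : Mem μ (P.mat code) 137 := m136.step (Par.def_of_chk ok d136) (by decide +kernel)

theorem m138 : Mem μ (P.mat code) 138 := m137.step (Par.def_of_chk ok d137) (by decide +kernel)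

theorem m139 : Mem μ (P.mat code) 139 := m138.step (Par.def_of_chk ok d138) (by decide +kernel)

theorem m140 : Mem μ (P.mat code) 140 := m139.step (Par.def_of_chk ok d139) (by decide +kernel)

theorem m141 : Mem μ (P.mat code) 141 := m140.step (Par.def_of_chk ok d140) (by decide +kernel)

theorem m142 : Mem μ (P.mat code) 142 := m141.step (Par.def_of_chk ok d141) (by decide +kernel)

theorem m143 : Mem μ (P.mat code) 143 := m142.step (Par.def_of_chk ok d142) (by decide +kernel)

theorem m144 : Mem μ (P.mat code) 144 := m143.step (Par.def_of_chk ok d143) (by decide +kernel)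

theorem hX : gen L.ev [[1], [2], [3], [5], [6], [7], [8], [18]] = ⊤ :=
  top_le_iff.mp (L.hX ▸ gen_le_of_zip L.hev L.hR (W := [[1], [2], [3], [5], [6], [7], [8], [8,3,8,3], [1,2,7,4,6,3], [7,6,1,2,4,6], [1,2,4,6,7,6], [6,3,8,6,7,6,8,4,6], [18]]) (by decide +kernel))

theorem one {l a : ℕ} (h : (Nat.ble 1 l && Nat.blt l 20 && Nat.ble 1 a && Nat.blt a 144 &&
    Nat.beq (code a) (LM.code l)) = true) : ∃ g, μ g = LM.μ (evL L.ev [l]) := by
  simp only [Bool.and_eq_true, Nat.ble_eq, Nat.blt_eq, Nat.beq_eq] at h
  obtain ⟨g, hg⟩ := m144 a h.1.1.2 h.1.2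
  exact ⟨g, by rw [hg, evL_singleton, LM.hμ l h.1.1.1.1 h.1.1.1.2, Par.mat, Par.mat, h.2]⟩

theorem iso : Nonempty (L.Grp ≃* Spor.Ly) := by
  have := Ly.finite
  obtain ⟨ψ, hψ⟩ := exists_hom_of_mats LM.μ μ Ly.main.2 hX (List.forall_mem_cons.mpr ⟨one (a := 109) (by decide +kernel), (List.forall_mem_cons.mpr ⟨one (a := 111) (by decide +kernel), (List.forall_mem_cons.mpr ⟨one (a := 112) (by decide +kernel), (List.forall_mem_cons.mpr ⟨one (a := 113) (by decide +kernel), (List.forall_mem_cons.mpr ⟨one (a := 114) (by decide +kernel), (List.forall_mem_cons.mpr ⟨one (a := 115) (by decide +kernel), (List.forall_mem_cons.mpr ⟨one (a := 143) (by decide +kernel), (List.forall_mem_cons.mpr ⟨one (a := 129) (by decide +kernel), (by simp)⟩)⟩)⟩)⟩)⟩)⟩)⟩)⟩)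
  exact equiv_of_injective ψ (fun a b e => D.main.2 (by rw [← hψ, ← hψ, e]))
    (by rw [Ly.main.1, D.main.1])


end Cfsg.H6.LR.S
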